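import Cfsg.Agent.Lib.OmegaSeven.Final

/-!
The fifth representative and its twin are not conjugate in `Ω(7,3)`: an isometry of determinant 1
commuting with the fifth representative is a product of elements of order three, so has trivial
spinor value.
-/

set_option autoImplicit false
set_option maxRecDepth 100000

namespace Cfsg.Agent.Lib.OmegaSeven

open QuadraticMap

/-- The images of a code under the powers of a matrix. -/
def powApp (Y : List ℕ) : ℕ → ℕ → ℕ
  | 0, n => n
  | i + 1, n => appC Y (powApp Y i n)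

/-- The vectors that could be images of `v`. -/
def profC (Y : List ℕ) (v l : ℕ) (pre : List ℕ) (n : ℕ) : Bool :=
  qC n == qC v && (List.range l).all fun i =>
    bC n (powApp Y i n) == bC v (powApp Y i v) &&
      pre.all fun b => bC (powApp Y i n) b == bC (powApp Y i v) b

/-- A word applied to a code. -/
def wordC (T : List Entry) (w : List ℕ) (n : ℕ) : ℕ :=
  w.foldr (fun i acc => appC (T.getD i ([], [])).1 acc) n

/-- The orbit table lists the given codes. -/
def orbitOK (allowNeg : Bool) (T : List Entry) (v : ℕ) :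
    List ℕ → List (ℕ × Bool × List ℕ) → Bool
  | [], [] => true
  | n :: ns, (_, s, w) :: os =>
    ((allowNeg || !s) && w.all (fun i => decide (i < T.length)) &&
      eqC n (bif s then negC (wordC T w v) else wordC T w v)) && orbitOK allowNeg T v ns os
  | _, _ => false

/-- A generator at a level. -/
def genOK (Y : List ℕ) (pre : List ℕ) (e : Entry) : Bool :=
  isoOK e.1 e.2 && cubeOne e.1 && eqM (mulC e.1 Y) (mulC Y e.1) &&
    pre.all fun b => eqC (appC e.1 b) b

/-- The matrix of the fifth representative. -/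
def yM : List ℕ := repM 4

/-- The vectors fixed before level 1. -/
def pre1 : List ℕ := [base0, powApp yM 1 base0, powApp yM 2 base0]

/-- The vectors fixed before level 2. -/
def pre2 : List ℕ := pre1 ++ [base1, powApp yM 1 base1]

/-- A basis. -/
def pre3 : List ℕ := pre2 ++ [base2, powApp yM 1 base2]

/-- The inverse of the matrix of the basis. -/
def preInv : List ℕ := [8737, 9120, 577, 7, 218, 6223, 1776]

/-- All the checks at a level. -/
def centOK (allowNeg : Bool) (T : List Entry) (v l : ℕ) (pre : List ℕ)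
    (orb : List (ℕ × Bool × List ℕ)) : Bool :=
  T.all (genOK yM pre) && orbitOK allowNeg T v (allCodes.filter (profC yM v l pre)) orb

theorem cent0_ok : centOK true gens0 base0 3 [] orbit0 = true := by decide +kernel

theorem cent1_ok : centOK false gens1 base1 2 pre1 orbit1 = true := by decide +kernel

theorem cent2_ok : centOK false gens2 base2 2 pre2 orbit2 = true := by decide +kernel

theorem pre3_ok : eqM (mulC pre3 preInv) oneC = true := by decide +kernel

/-- Determinant and spinor value are trivial. -/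
def Good (g : Iso7) : Prop := dsign g = 1 ∧ spin g = 1

theorem Good.mul {g h : Iso7} (hg : Good g) (hh : Good h) : Good (g * h) :=
  ⟨by rw [map_mul, hg.1, hh.1, one_mul], by rw [map_mul, hg.2, hh.2, one_mul]⟩

/-- Fixing a list of vectors. -/
def FixL (pre : List ℕ) (g : Iso7) : Prop := ∀ b ∈ pre, Orth.app g (dec b) = dec b

theorem FixL.mul {pre : List ℕ} {g h : Iso7} (hg : FixL pre g) (hh : FixL pre h) :
    FixL pre (g * h) := fun b hb => by rw [Orth.app_mul, hh b hb, hg b hb]

theorem FixL.inv {pre : List ℕ} {g : Iso7} (hg : FixL pre g) : FixL pre g⁻¹ := fun b hb => by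
  conv_lhs => rw [← hg b hb]
  rw [Orth.app_inv_app]

theorem exists_word {pre : List ℕ} {T : List Entry} (hT : T.all (genOK yM pre) = true) (n : ℕ) :
    ∀ w : List ℕ, w.all (fun i => decide (i < T.length)) = true →
      ∃ g : Iso7, Good g ∧ Commute g (rep 4) ∧ FixL pre g ∧
        Orth.app g (dec n) = dec (wordC T w n)
  | [], _ => ⟨1, ⟨map_one _, map_one _⟩, Commute.one_left _,
      fun b _ => Orth.app_one _, Orth.app_one _⟩
  | i :: w, h => by
    simp only [List.all_cons, Bool.and_eq_true, decide_eq_true_eq] at h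
    obtain ⟨g, hg, hc, hf, hn⟩ := exists_word hT n w (by simpa [List.all_eq_true] using h.2)
    have he : T.getD i ([], []) ∈ T := by
      rw [List.getD_eq_getElem _ _ h.1]; exact List.getElem_mem _
    have hok := List.all_eq_true.1 hT _ he
    simp only [genOK, Bool.and_eq_true, List.all_eq_true, eqC_iff] at hok
    obtain ⟨⟨⟨hiso, hcube⟩, hcomm⟩, hfix⟩ := hok
    set t := isoOf _ _ hiso
    have ht : HasMat t (T.getD i ([], [])).1 := hasMat_isoOf hiso
    have ht3 := cube_of_cubeOne ht hcube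
    refine ⟨t * g, Good.mul ⟨map_cube_eq_one _ ht3, map_cube_eq_one _ ht3⟩ hg,
      Commute.mul_left ((HasMat.eq_iff (ht.mul (hasMat_rep 4)) ((hasMat_rep 4).mul ht)).2 hcomm) hc,
      FixL.mul (fun b hb => by rw [ht.app_dec, hfix b hb]) hf, ?_⟩
    rw [Orth.app_mul, hn, ht.app_dec]
    rfl

theorem orbitOK_spec {a : Bool} {T : List Entry} {v : ℕ} :
    ∀ {ns : List ℕ} {os : List (ℕ × Bool × List ℕ)}, orbitOK a T v ns os = true → ∀ n ∈ ns,
      ∃ (s : Bool) (w : List ℕ), (a = true ∨ s = false) ∧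
        w.all (fun i => decide (i < T.length)) = true ∧
        eqC n (bif s then negC (wordC T w v) else wordC T w v) = true
  | [], _, _, n, hn => by simp at hn
  | _ :: _, [], h, _, _ => by simp [orbitOK] at h
  | m :: ns, (_, s, w) :: os, h, n, hn => by
    simp only [orbitOK, Bool.and_eq_true, Bool.or_eq_true, Bool.not_eq_true'] at h
    rcases List.mem_cons.1 hn with rfl | hn
    · exact ⟨s, w, h.1.1.1, h.1.1.2, h.1.2⟩
    · exact orbitOK_spec h.2 n hn

theorem app_powApp {z : Iso7} (hz : Commute z (rep 4)) {v x : ℕ}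
    (hx : Orth.app z (dec v) = dec x) :
    ∀ i, Orth.app z (dec (powApp yM i v)) = dec (powApp yM i x)
  | 0 => hx
  | i + 1 => by
    have hy : HasMat (rep 4) yM := hasMat_rep 4
    simp only [powApp]
    rw [← hy.app_dec, ← hy.app_dec, ← Orth.app_mul, hz.eq, Orth.app_mul, app_powApp hz hx i]

theorem natCast_bC_inj {a b c d : ℕ} :
    bC a b = bC c d ↔ polar ⇑form (dec a) (dec b) = polar ⇑form (dec c) (dec d) := by
  rw [← bC_eq, ← bC_eq, natCast_inj (bC_lt _ _) (bC_lt _ _)]

theorem cent_step {a : Bool} {T : List Entry} {v l : ℕ} {pre : List ℕ}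
    {orb : List (ℕ × Bool × List ℕ)} (hok : centOK a T v l pre orb = true) {z : Iso7}
    (hz : Commute z (rep 4)) (hzf : FixL pre z) :
    ∃ g s : Iso7, Good g ∧ (s = 1 ∨ (a = true ∧ s = Orth.negOne form)) ∧
      Commute (g⁻¹ * s * z) (rep 4) ∧ (s = 1 → FixL pre (g⁻¹ * s * z)) ∧
      ∀ i, Orth.app (g⁻¹ * s * z) (dec (powApp yM i v)) = dec (powApp yM i v) := by
  simp only [centOK, Bool.and_eq_true] at hok
  obtain ⟨hT, horb⟩ := hok
  obtain ⟨x, hx, hxv⟩ := exists_code (Orth.app z (dec v))
  have himg := app_powApp hz hxv.symm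
  have hp : profC yM v l pre x = true := by
    simp only [profC, Bool.and_eq_true, beq_iff_eq, List.all_eq_true, List.mem_range,
      natCast_bC_inj]
    refine ⟨?_, fun i _ => ⟨?_, fun b hb => ?_⟩⟩
    · rw [← natCast_inj (qC_lt _) (qC_lt _), qC_eq, qC_eq, hxv, Orth.Q_app]
    · rw [← himg i, hxv, Orth.polar_app]
    · rw [← himg i]
      conv_lhs => rw [← hzf b hb, Orth.polar_app]
  obtain ⟨s, w, hs, hw, heq⟩ := orbitOK_spec horb x (List.mem_filter.2 ⟨hx, hp⟩)
  obtain ⟨g, hg, hgc, hgf, hgv⟩ := exists_word hT v w hw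
  rw [eqC_iff, hxv] at heq
  have hfin : ∀ s' : Iso7, Commute s' (rep 4) →
      Orth.app s' (Orth.app z (dec v)) = dec (wordC T w v) →
      Commute (g⁻¹ * s' * z) (rep 4) ∧
      ∀ i, Orth.app (g⁻¹ * s' * z) (dec (powApp yM i v)) = dec (powApp yM i v) := by
    intro s' hs' he
    have hc : Commute (g⁻¹ * s' * z) (rep 4) := (hgc.inv_left.mul_left hs').mul_left hz
    refine ⟨hc, app_powApp hc ?_⟩
    rw [Orth.app_mul, Orth.app_mul, he, ← hgv, Orth.app_inv_app]
  cases s with
  | false =>
    obtain ⟨h1, h3⟩ := hfin 1 (Commute.one_left _) (by rw [Orth.app_one]; exact heq)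
    refine ⟨g, 1, hg, Or.inl rfl, h1, fun _ => ?_, h3⟩
    rw [mul_one]; exact hgf.inv.mul hzf
  | true =>
    obtain ⟨h1, h3⟩ := hfin (Orth.negOne form) (negOne_comm _) (by
      rw [Orth.app_negOne, heq]; simp [dec_negC])
    refine ⟨g, Orth.negOne form, hg, Or.inr ⟨hs.resolve_right (by simp), rfl⟩, h1, fun e => ?_, h3⟩
    have h := congrArg dsign e
    rw [dsign_negOne, map_one] at h
    exact absurd h (by decide)

theorem spin_of_commute {z : Iso7} (hz : Commute z (rep 4)) (hd : dsign z = 1) : spin z = 1 := by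
  obtain ⟨g0, s, hg0, hs, hc0, -, hf0⟩ := cent_step cent0_ok hz (fun b hb => by simp at hb)
  set z1 := g0⁻¹ * s * z
  have hz1 : FixL pre1 z1 := fun b hb => by
    simp only [pre1, List.mem_cons, List.not_mem_nil, or_false] at hb
    rcases hb with rfl | rfl | rfl
    exacts [hf0 0, hf0 1, hf0 2]
  obtain ⟨g1, s1, hg1, hs1, hc1, hp1, hf1⟩ := cent_step cent1_ok hc0 hz1
  obtain rfl : s1 = 1 := hs1.resolve_right (by simp)
  set z2 := g1⁻¹ * 1 * z1
  have hz2 : FixL pre2 z2 := fun b hb => by
    rw [pre2] at hb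
    rcases List.mem_append.1 hb with hb | hb
    · exact hp1 rfl b hb
    · simp only [List.mem_cons, List.not_mem_nil, or_false] at hb
      rcases hb with rfl | rfl
      exacts [hf1 0, hf1 1]
  obtain ⟨g2, s2, hg2, hs2, -, hp2, hf2⟩ := cent_step cent2_ok hc1 hz2
  obtain rfl : s2 = 1 := hs2.resolve_right (by simp)
  set z3 := g2⁻¹ * 1 * z2
  have hz3 : FixL pre3 z3 := fun b hb => by
    rw [pre3] at hb
    rcases List.mem_append.1 hb with hb | hb
    · exact hp2 rfl b hb
    · simp only [List.mem_cons, List.not_mem_nil, or_false] at hb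
      rcases hb with rfl | rfl
      exacts [hf2 0, hf2 1]
  have h3 : z3 = 1 := by
    apply Subtype.ext
    apply Units.ext
    have e1 : ((z3 : Matrix.GeneralLinearGroup Idx (ZMod 3)) : Matrix Idx Idx (ZMod 3)) *
        toMat pre3 = toMat pre3 := by
      ext i j
      have hb : colAt pre3 (num j) ∈ pre3 := by
        rw [colAt, List.getD_eq_getElem _ _ (show num j < pre3.length from num_lt j)]
        exact List.getElem_mem _
      exact congrFun (hz3 _ hb) i
    have e2 : toMat pre3 * toMat preInv = 1 := by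
      rw [← toMat_mulC, ← toMat_oneC]; exact (toMat_eq_iff _ _).1 pre3_ok
    have := congrArg (· * toMat preInv) e1
    simp only [mul_assoc, e2, mul_one] at this
    rw [this]; rfl
  have hzz : s * z = g0 * (g1 * g2) := by
    have : g2⁻¹ * 1 * (g1⁻¹ * 1 * (g0⁻¹ * s * z)) = 1 := h3
    calc s * z = g0 * (g1 * g2) * (g2⁻¹ * 1 * (g1⁻¹ * 1 * (g0⁻¹ * s * z))) := by group
      _ = g0 * (g1 * g2) := by rw [this, mul_one]
  have hgood : Good (s * z) := by rw [hzz]; exact hg0.mul (hg1.mul hg2)
  rcases hs with rfl | ⟨-, rfl⟩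
  · simpa using hgood.2
  · have := hgood.1
    rw [map_mul, dsign_negOne, hd] at this
    exact absurd this (by decide)

/-- The seven representatives generate pairwise non-conjugate subgroups. -/
theorem rep_conj_inj {g : Iso7} (hg : g ∈ Omega (ZMod 3) ⇑form) {i j : Fin 7}
    (h : g * rep i * g⁻¹ = rep j ∨ g * rep i * g⁻¹ = (rep j)⁻¹) : i = j := by
  have hlab := label_eq_of_conj h
  have key : ∀ i j : Fin 7, label i = label j → i = j ∨ (i = 4 ∧ j = 6) ∨ (i = 6 ∧ j = 4) := by
    decide +kernel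
  have main : ∀ k ∈ Omega (ZMod 3) ⇑form,
      k * rep 4 * k⁻¹ ≠ rep 6 ∧ k * rep 4 * k⁻¹ ≠ (rep 6)⁻¹ := by
    intro k hk
    rw [mem_omega_iff7] at hk
    obtain ⟨⟨-, hq⟩, -, hl, hc, he⟩ := vecs_ok
    obtain ⟨hm, hd', hs'⟩ := rp_spec hq
    rw [neg_one_pow_of_mod hl] at hd'
    rw [neg_one_pow_of_mod hc] at hs'
    have hflip : rp flipVecs * rep 4 * (rp flipVecs)⁻¹ = (rep 4)⁻¹ :=
      HasMat.conj_eq hm (hasMat_rep 4) (hasMat_isoOf_inv (repM_ok 4).1) he
    constructor <;> intro e
    · have hc' : Commute ((rp shiftVecs)⁻¹ * k) (rep 4) := by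
        refine mul_inv_eq_iff_eq_mul.1 (?_ : _ * rep 4 * ((rp shiftVecs)⁻¹ * k)⁻¹ = rep 4)
        calc _ = (rp shiftVecs)⁻¹ * (k * rep 4 * k⁻¹) * rp shiftVecs := by group
          _ = rep 4 := by rw [e, ← rep_six]; group
      have h1 := spin_of_commute hc' (by rw [map_mul, map_inv, shift_sign.1, hk.1]; decide)
      rw [map_mul, map_inv, shift_sign.2, hk.2] at h1
      exact absurd h1 (by decide)
    · have hc' : Commute (rp flipVecs * ((rp shiftVecs)⁻¹ * k)) (rep 4) := by
        refine mul_inv_eq_iff_eq_mul.1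
          (?_ : _ * rep 4 * (rp flipVecs * ((rp shiftVecs)⁻¹ * k))⁻¹ = rep 4)
        calc _ = rp flipVecs * ((rp shiftVecs)⁻¹ * (k * rep 4 * k⁻¹) * rp shiftVecs) *
              (rp flipVecs)⁻¹ := by group
          _ = rp flipVecs * (rep 4)⁻¹ * (rp flipVecs)⁻¹ := by rw [e, ← rep_six]; group
          _ = (rp flipVecs * rep 4 * (rp flipVecs)⁻¹)⁻¹ := by group
          _ = rep 4 := by rw [hflip, inv_inv]
      have h1 := spin_of_commute hc'
        (by rw [map_mul, map_mul, map_inv, shift_sign.1, hd', hk.1]; decide)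
      rw [map_mul, map_mul, map_inv, shift_sign.2, hs', hk.2] at h1
      exact absurd h1 (by decide)
  rcases key i j hlab with e | ⟨rfl, rfl⟩ | ⟨rfl, rfl⟩
  · exact e
  · rcases h with e | e
    exacts [absurd e (main g hg).1, absurd e (main g hg).2]
  · rcases h with e | e
    · exact absurd (by rw [← e]; group : g⁻¹ * rep 4 * g⁻¹⁻¹ = rep 6) (main _ (inv_mem hg)).1
    · refine absurd (?_ : g⁻¹ * rep 4 * g⁻¹⁻¹ = (rep 6)⁻¹) (main _ (inv_mem hg)).2
      have e' := congrArg (·⁻¹) e
      simp only [inv_inv] at e'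
      rw [← e']; group

end Cfsg.Agent.Lib.OmegaSeven
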