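import Cfsg.Agent.Lib.OmegaSeven.Data

/-!
The kernel checks on the tables.
-/

set_option autoImplicit false
set_option maxRecDepth 100000

namespace Cfsg.Agent.Lib.OmegaSeven

/-- The code of the first vector of the `k`-th hyperbolic pair. -/
def eCode (k : ℕ) : ℕ := unitC (1 + k)

/-- The code of the second vector of the `k`-th hyperbolic pair. -/
def fCode (k : ℕ) : ℕ := unitC (4 + k)

/-- The code is orthogonal to the first `k` hyperbolic pairs. -/
def perpC (k n : ℕ) : Bool :=
  (List.range k).all fun i => bC n (eCode i) == 0 && bC n (fCode i) == 0

/-- A nonzero singular vector orthogonal to the first `k` pairs. -/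
def singC (k n : ℕ) : Bool := !(eqC n 0) && (qC n == 0 && perpC k n)

/-- A singular vector orthogonal to the first `k` pairs with product 1 with the next one. -/
def partnerC (k n : ℕ) : Bool := qC n == 0 && (bC n (eCode k) == 1 && perpC k n)

/-- The first `k` pairs are fixed. -/
def frameC (k : ℕ) (M : List ℕ) : Bool :=
  (List.range k).all fun i =>
    eqC (colAt M (1 + i)) (eCode i) && eqC (colAt M (4 + i)) (fCode i)

/-- The list of codes is the list of the given columns of the entries. -/
def matchCol (c : ℕ) : List ℕ → List Entry → Bool
  | [], [] => true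
  | n :: ns, e :: es => eqC (colAt e.1 c) n && matchCol c ns es
  | _, _ => false

/-- A mover at level `k`. -/
def moverOK (k : ℕ) (e : Entry) : Bool := isoOK e.1 e.2 && frameC k e.1

/-- Off the column of `f` and the coordinate of `e` the matrix is the identity. -/
def eichlerC (k : ℕ) (M : List ℕ) : Bool :=
  (List.range 7).all fun i => (i == 4 + k) || (List.range 7).all fun j =>
    (j == 1 + k) || trit (colAt M i) j == trit (unitC i) j

/-- A transvection at level `k`. -/
def transOK (k : ℕ) (e : Entry) : Bool := moverOK k e && eichlerC k e.1

/-- The cube is 1. -/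
def cubeOne (M : List ℕ) : Bool := eqM (mulC (mulC M M) M) oneC

/-- Conjugations of the products of a transvection with the representatives. -/
def rowOK (k : ℕ) (R : List Entry) (T : List ℕ) :
    List Entry → List (Option (ℕ × Entry)) → Bool
  | [], [] => true
  | r :: rs, some (a, h) :: os =>
    (decide (a < R.length) && moverOK k h &&
      eqM (mulC h.1 (mulC T r.1)) (mulC (R.getD a ([], [])).1 h.1)) && rowOK k R T rs os
  | r :: rs, none :: os => !cubeOne (mulC T r.1) && rowOK k R T rs os
  | _, _ => false

/-- All rows. -/
def rowsOK (k : ℕ) (R R' : List Entry) : List Entry → List (List (Option (ℕ × Entry))) → Bool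
  | [], [] => true
  | t :: ts, o :: os => rowOK k R t.1 R' o && rowsOK k R R' ts os
  | _, _ => false

/-- All the checks at a level. -/
def levelOK (k : ℕ) (R R' C T : List Entry) (P : List (List (Option (ℕ × Entry)))) : Bool :=
  (matchCol (1 + k) (allCodes.filter (singC k)) C && C.all (moverOK k)) &&
    ((matchCol (4 + k) (allCodes.filter (partnerC k)) T && T.all (transOK k)) &&
      rowsOK k R R' T P)

/-- A representative at level `k`. -/
def repOK (k : ℕ) (e : Entry) : Bool := moverOK k e

theorem reps_ok : rep0.all (repOK 0) = true ∧ rep1.all (repOK 1) = true ∧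
    rep2.all (repOK 2) = true ∧ rep3.all (repOK 3) = true := by decide +kernel

theorem rep3_one : rep3.all (fun e => eqM e.1 oneC) = true := by decide +kernel

theorem sing_count : allCodes.countP (singC 0) % 3 = 2 ∧ allCodes.countP (singC 1) % 3 = 2 ∧
    allCodes.countP (singC 2) % 3 = 2 := by decide +kernel

theorem level2_ok : levelOK 2 rep2 rep3 cols2 trans2 conj2 = true := by decide +kernel

theorem level1_ok : levelOK 1 rep1 rep2 cols1 trans1 conj1 = true := by decide +kernel

theorem level0_ok : levelOK 0 rep0 rep1 cols0 trans0 conj0 = true := by decide +kernel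

end Cfsg.Agent.Lib.OmegaSeven
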