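import Cfsg.Agent.Lib.Orth.StandardOdd
import Cfsg.Agent.Lib.Orth.NegOne

/-!
Vectors and matrices over `ZMod 3` in dimension 7, packed in natural numbers, for kernel checks on
the isometries of `x₀² + x₁y₁ + x₂y₂ + x₃y₃`.

A vector code has bit `i` set when coordinate `i` is 1, bit `i + 7` when it is 2. A matrix is the
list of the codes of the images of the unit vectors.
-/

set_option autoImplicit false
set_option maxRecDepth 100000

namespace Cfsg.Agent.Lib.OmegaSeven

open QuadraticMap

/-- The index type. -/
abbrev Idx : Type := Unit ⊕ (Fin 3 ⊕ Fin 3)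

/-- The space. -/
abbrev Vec : Type := Idx → ZMod 3

/-- The form. -/
noncomputable abbrev form : QuadraticForm (ZMod 3) Vec := Orth.oddForm 3 (ZMod 3)

/-- The isometries. -/
abbrev Iso7 : Type := ↥(Cfsg.isometryGroup (ZMod 3) ⇑form)

/-- Numbering of the coordinates. -/
def idxEquiv : Idx ≃ Fin 7 where
  toFun
    | .inl _ => 0
    | .inr (.inl k) => ⟨1 + k.val, by omega⟩
    | .inr (.inr k) => ⟨4 + k.val, by omega⟩
  invFun i :=
    if i.val = 0 then .inl () else if h : i.val < 4 then .inr (.inl ⟨i.val - 1, by omega⟩)
    else .inr (.inr ⟨i.val - 4, by omega⟩)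
  left_inv := by decide
  right_inv := by decide

/-- The number of a coordinate. -/
def num (i : Idx) : ℕ := (idxEquiv i).val

theorem num_lt (i : Idx) : num i < 7 := (idxEquiv i).isLt

/-- The coordinate with a given number. -/
def idxAt (i : ℕ) : Idx := if h : i < 7 then idxEquiv.symm ⟨i, h⟩ else .inl ()

theorem idxAt_num (i : Idx) : idxAt (num i) = i := by
  rw [idxAt, dif_pos (num_lt i)]; exact idxEquiv.symm_apply_apply i

/-! ### Vectors -/

/-- A trit of a code, as a number. -/
def trit (n i : ℕ) : ℕ := bif n.testBit i then 1 else bif n.testBit (i + 7) then 2 else 0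

/-- The vector of a code. -/
def dec (n : ℕ) : Vec := fun i => (trit n (num i) : ZMod 3)

/-- The coordinates equal to 1. -/
def plusMask (n : ℕ) : ℕ := n &&& 127

/-- The coordinates equal to 2. -/
def minusMask (n : ℕ) : ℕ := ((n >>> 7) &&& 127) ^^^ (((n >>> 7) &&& 127) &&& plusMask n)

/-- The mask of `a` outside `c`. -/
def maskDiff (a c : ℕ) : ℕ := a ^^^ (a &&& c)

/-- Sum of two codes. -/
def addC (m n : ℕ) : ℕ :=
  (maskDiff (plusMask m) (plusMask n ||| minusMask n) |||
    maskDiff (plusMask n) (plusMask m ||| minusMask m) ||| (minusMask m &&& minusMask n)) |||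
  ((maskDiff (minusMask m) (plusMask n ||| minusMask n) |||
    maskDiff (minusMask n) (plusMask m ||| minusMask m) ||| (plusMask m &&& plusMask n)) <<< 7)

/-- Negative of a code. -/
def negC (n : ℕ) : ℕ := minusMask n ||| (plusMask n <<< 7)

theorem testBit_127 : ∀ i, (127 : ℕ).testBit i = decide (i < 7) := fun i => by
  rw [show (127 : ℕ) = 2 ^ 7 - 1 from rfl, Nat.testBit_two_pow_sub_one]

theorem testBit_masks (n i : ℕ) : (plusMask n).testBit i = (decide (i < 7) && n.testBit i) ∧
    (minusMask n).testBit i = (decide (i < 7) && n.testBit (i + 7) && !n.testBit i) := by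
  refine ⟨by rw [plusMask, Nat.testBit_and, testBit_127, Bool.and_comm], ?_⟩
  simp only [minusMask, plusMask, Nat.testBit_xor, Nat.testBit_and, Nat.testBit_shiftRight,
    testBit_127, Nat.add_comm 7 i]
  cases decide (i < 7) <;> cases n.testBit i <;> cases n.testBit (i + 7) <;> rfl

theorem trit_addC {i : ℕ} (hi : i < 7) (m n : ℕ) :
    (trit (addC m n) i : ZMod 3) = (trit m i : ZMod 3) + (trit n i : ZMod 3) := by
  have h1 : (addC m n).testBit i =
      ((m.testBit i && !(n.testBit i || n.testBit (i + 7))) ||
        (n.testBit i && !(m.testBit i || m.testBit (i + 7))) ||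
        ((m.testBit (i + 7) && !m.testBit i) && (n.testBit (i + 7) && !n.testBit i))) := by
    simp only [addC, maskDiff, Nat.testBit_or, Nat.testBit_xor, Nat.testBit_and,
      Nat.testBit_shiftLeft, (testBit_masks _ _).1, (testBit_masks _ _).2, hi,
      show ¬ (7 ≤ i) by omega, decide_true, decide_false, Bool.true_and, Bool.false_and,
      Bool.or_false]
    cases m.testBit i <;> cases m.testBit (i + 7) <;> cases n.testBit i <;>
      cases n.testBit (i + 7) <;> rfl
  have h2 : (addC m n).testBit (i + 7) =
      (((m.testBit (i + 7) && !m.testBit i) && !(n.testBit i || n.testBit (i + 7))) ||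
        ((n.testBit (i + 7) && !n.testBit i) && !(m.testBit i || m.testBit (i + 7))) ||
        (m.testBit i && n.testBit i)) := by
    simp only [addC, maskDiff, Nat.testBit_or, Nat.testBit_xor, Nat.testBit_and,
      Nat.testBit_shiftLeft, (testBit_masks _ _).1, (testBit_masks _ _).2, hi,
      show 7 ≤ i + 7 by omega, show ¬ (i + 7 < 7) by omega, Nat.add_sub_cancel, decide_true,
      decide_false, Bool.true_and, Bool.false_and, Bool.false_or]
    cases m.testBit i <;> cases m.testBit (i + 7) <;> cases n.testBit i <;>
      cases n.testBit (i + 7) <;> rfl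
  simp only [trit, h1, h2]
  cases m.testBit i <;> cases m.testBit (i + 7) <;> cases n.testBit i <;>
    cases n.testBit (i + 7) <;> decide

theorem trit_negC {i : ℕ} (hi : i < 7) (n : ℕ) :
    (trit (negC n) i : ZMod 3) = -(trit n i : ZMod 3) := by
  have h1 : (negC n).testBit i = (n.testBit (i + 7) && !n.testBit i) := by
    simp only [negC, Nat.testBit_or, Nat.testBit_shiftLeft, (testBit_masks _ _).2, hi,
      show ¬ (7 ≤ i) by omega, decide_true, decide_false, Bool.true_and, Bool.false_and,
      Bool.or_false]
  have h2 : (negC n).testBit (i + 7) = n.testBit i := by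
    simp only [negC, Nat.testBit_or, Nat.testBit_shiftLeft, (testBit_masks _ _).1,
      (testBit_masks _ _).2, hi,
      show 7 ≤ i + 7 by omega, show ¬ (i + 7 < 7) by omega, Nat.add_sub_cancel, decide_true,
      decide_false, Bool.true_and, Bool.false_and, Bool.false_or]
  simp only [trit, h1, h2]
  cases n.testBit i <;> cases n.testBit (i + 7) <;> decide

theorem dec_addC (m n : ℕ) : dec (addC m n) = dec m + dec n :=
  funext fun i => trit_addC (num_lt i) m n

theorem dec_negC (n : ℕ) : dec (negC n) = -dec n := funext fun i => trit_negC (num_lt i) n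

theorem dec_zero : dec 0 = 0 := funext fun i => by simp [dec, trit]

theorem trit_le (n i : ℕ) : trit n i ≤ 2 := by
  simp only [trit]; cases n.testBit i <;> cases n.testBit (i + 7) <;> simp

/-- A multiple of a code. -/
def scaleC (c n : ℕ) : ℕ :=
  bif c % 3 == 1 then n else bif c % 3 == 2 then negC n else 0

theorem dec_scaleC (c n : ℕ) : dec (scaleC c n) = (c : ZMod 3) • dec n := by
  rw [← ZMod.natCast_mod c 3, scaleC]
  rcases (by omega : c % 3 = 0 ∨ c % 3 = 1 ∨ c % 3 = 2) with e | e | e <;> rw [e]
  · simp [dec_zero]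
  · simp
  · rw [show ((2 : ℕ) : ZMod 3) = -1 from by decide, neg_one_smul, ← dec_negC]; simp

/-- Equality of the seven coordinates. -/
def eqC (m n : ℕ) : Bool := plusMask m == plusMask n && minusMask m == minusMask n

theorem eqC_iff (m n : ℕ) : eqC m n = true ↔ dec m = dec n := by
  simp only [eqC, Bool.and_eq_true, beq_iff_eq]
  constructor
  · rintro ⟨h1, h2⟩
    funext i
    have e1 := congrArg (fun x => x.testBit (num i)) h1
    have e2 := congrArg (fun x => x.testBit (num i)) h2
    simp only [(testBit_masks _ _).1, (testBit_masks _ _).2, num_lt i, decide_true,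
      Bool.true_and] at e1 e2
    simp only [dec, trit]
    revert e1 e2
    cases m.testBit (num i) <;> cases m.testBit (num i + 7) <;> cases n.testBit (num i) <;>
      cases n.testBit (num i + 7) <;> simp
  · intro h
    have key : ∀ i < 7, m.testBit i = n.testBit i ∧
        (m.testBit (i + 7) && !m.testBit i) = (n.testBit (i + 7) && !n.testBit i) := by
      intro i hi
      have e := congrFun h (idxAt i)
      have hn : num (idxAt i) = i := by
        rw [idxAt, dif_pos hi, num, Equiv.apply_symm_apply]
      simp only [dec, trit, hn] at e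
      revert e
      cases m.testBit i <;> cases m.testBit (i + 7) <;> cases n.testBit i <;>
        cases n.testBit (i + 7) <;> decide
    constructor <;> refine Nat.eq_of_testBit_eq fun i => ?_
    · rw [(testBit_masks _ _).1, (testBit_masks _ _).1]
      by_cases hi : i < 7
      · rw [(key i hi).1]
      · simp [hi]
    · rw [(testBit_masks _ _).2, (testBit_masks _ _).2]
      by_cases hi : i < 7
      · simp only [hi, decide_true, Bool.true_and]; exact (key i hi).2
      · simp [hi]

/-- The code of a unit vector. -/
def unitC (i : ℕ) : ℕ := 2 ^ i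

theorem dec_unitC (i : Idx) : dec (unitC (num i)) = Pi.single i 1 := by
  revert i; decide +kernel

/-- The code with given coordinates. -/
def ofTrits : List ℕ → ℕ → ℕ
  | [], _ => 0
  | c :: cs, i => addC (scaleC c (unitC i)) (ofTrits cs (i + 1))

/-- All lists of trits of a length. -/
def allTrits : ℕ → List (List ℕ)
  | 0 => [[]]
  | n + 1 => (allTrits n).flatMap fun l => [0 :: l, 1 :: l, 2 :: l]

/-- All vector codes. -/
def allCodes : List ℕ := (allTrits 7).map fun l => ofTrits l 0

theorem allCodes_spec :
    (allTrits 7).all (fun l => (List.range 7).all fun i =>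
      trit (ofTrits l 0) i == l.getD i 0) = true := by decide +kernel

theorem mem_allTrits : ∀ (n : ℕ) (l : List ℕ), l.length = n → (∀ c ∈ l, c ≤ 2) → l ∈ allTrits n
  | 0, l, h, _ => by simp [allTrits, List.length_eq_zero_iff.1 h]
  | n + 1, [], h, _ => by simp at h
  | n + 1, c :: l, h, hc => by
    refine List.mem_flatMap.2 ⟨l, mem_allTrits n l (by simpa using h)
      (fun d hd => hc d (List.mem_cons_of_mem _ hd)), ?_⟩
    have := hc c List.mem_cons_self
    rcases (by omega : c = 0 ∨ c = 1 ∨ c = 2) with rfl | rfl | rfl <;> simp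

theorem exists_code (v : Vec) : ∃ n ∈ allCodes, dec n = v := by
  let l := (List.range 7).map fun i => (v (idxAt i)).val
  have hl : l ∈ allTrits 7 := mem_allTrits 7 l (by simp [l]) fun c hc => by
    obtain ⟨i, -, rfl⟩ := List.mem_map.1 hc
    have := ZMod.val_lt (v (idxAt i)); omega
  refine ⟨_, List.mem_map_of_mem hl, funext fun i => ?_⟩
  have h := List.all_eq_true.1 (List.all_eq_true.1 allCodes_spec l hl) (num i)
    (List.mem_range.2 (num_lt i))
  rw [beq_iff_eq] at h
  simp only [dec, h, l]
  rw [List.getD_eq_getElem _ _ (by simpa using num_lt i)]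
  simp [idxAt_num, ZMod.natCast_zmod_val]

theorem allCodes_nodup : (allCodes.map fun n => (List.range 7).map (trit n)).Nodup := by
  have e : allCodes.map (fun n => (List.range 7).map (trit n)) = allTrits 7 := by decide +kernel
  rw [e]
  have hn : ∀ n, (allTrits n).Nodup := by
    intro n
    induction n with
    | zero => simp [allTrits]
    | succ n ih =>
      refine List.nodup_flatMap.2 ⟨fun l _ => by simp, ?_⟩
      refine ih.imp fun {a b} hab c hca hcb => ?_
      simp only [List.mem_cons, List.not_mem_nil, or_false] at hca hcb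
      rcases hca with rfl | rfl | rfl <;> simp_all
  exact hn 7

/-- Counting vectors through their codes. -/
theorem card_filter_eq_countP (P : Vec → Prop) [DecidablePred P] (p : ℕ → Bool)
    (h : ∀ n, p n = true ↔ P (dec n)) :
    (Finset.univ.filter P).card = allCodes.countP p := by
  classical
  have hinj : (allCodes.map dec).Nodup := by
    refine List.Nodup.of_map (fun v => (List.range 7).map fun i => (v (idxAt i)).val) ?_
    rw [List.map_map]
    have e : allCodes.map ((fun v => (List.range 7).map fun i => (v (idxAt i)).val) ∘ dec) =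
        allCodes.map fun n => (List.range 7).map (trit n) := by
      refine List.map_congr_left fun n _ => ?_
      simp only [Function.comp_apply]
      refine List.map_congr_left fun i hi => ?_
      have hi' := List.mem_range.1 hi
      rw [dec, idxAt, dif_pos hi', num, Equiv.apply_symm_apply, ZMod.val_natCast,
        Nat.mod_eq_of_lt (by have := trit_le n ((⟨i, hi'⟩ : Fin 7) : ℕ); omega)]
    rw [e]; exact allCodes_nodup
  have huniv : (Finset.univ : Finset Vec) = (allCodes.map dec).toFinset := by
    refine (Finset.eq_univ_iff_forall.2 fun v => ?_).symm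
    obtain ⟨n, hn, e⟩ := exists_code v
    exact List.mem_toFinset.2 (List.mem_map.2 ⟨n, hn, e⟩)
  have hf : (allCodes.map dec).toFinset.filter P =
      ((allCodes.map dec).filter fun v => decide (P v)).toFinset := by
    ext v; simp
  rw [huniv, hf, List.toFinset_card_of_nodup (hinj.filter _), List.filter_map,
    List.length_map, ← List.countP_eq_length_filter]
  refine List.countP_congr fun n _ => ?_
  simp only [Function.comp_apply, decide_eq_true_eq]
  exact (h n).symm

/-! ### The form -/

/-- The form on a code, as a number. -/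
def qC (n : ℕ) : ℕ :=
  (trit n 0 * trit n 0 + trit n 1 * trit n 4 + trit n 2 * trit n 5 + trit n 3 * trit n 6) % 3

/-- The polar form on codes, as a number. -/
def bC (m n : ℕ) : ℕ :=
  (2 * (trit m 0 * trit n 0) + (trit m 1 * trit n 4 + trit m 4 * trit n 1) +
    (trit m 2 * trit n 5 + trit m 5 * trit n 2) + (trit m 3 * trit n 6 + trit m 6 * trit n 3)) % 3

theorem qC_eq (n : ℕ) : (qC n : ZMod 3) = form (dec n) := by
  rw [show form (dec n) = Cfsg.quadFormOdd 3 (ZMod 3) (dec n) from
    congrFun (Orth.coe_oddForm 3) _]
  simp only [qC, ZMod.natCast_mod, Cfsg.quadFormOdd, Fin.sum_univ_three, dec, Nat.cast_add,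
    Nat.cast_mul, pow_two]
  simp [num, idxEquiv]
  ring

theorem bC_eq (m n : ℕ) : (bC m n : ZMod 3) = polar ⇑form (dec m) (dec n) := by
  rw [Orth.polar_oddForm]
  simp only [bC, ZMod.natCast_mod, Fin.sum_univ_three, dec, Nat.cast_add, Nat.cast_mul]
  simp [num, idxEquiv]
  ring

theorem natCast_inj {a b : ℕ} (ha : a < 3) (hb : b < 3) : (a : ZMod 3) = (b : ZMod 3) ↔ a = b := by
  rw [ZMod.natCast_eq_natCast_iff', Nat.mod_eq_of_lt ha, Nat.mod_eq_of_lt hb]

theorem qC_lt (n : ℕ) : qC n < 3 := Nat.mod_lt _ (by norm_num)

theorem bC_lt (m n : ℕ) : bC m n < 3 := Nat.mod_lt _ (by norm_num)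

/-! ### Matrices -/

/-- The image of a unit vector. -/
def colAt (M : List ℕ) (i : ℕ) : ℕ := M.getD i 0

/-- Linear combination of the first `k` columns. -/
def appUpTo (M : List ℕ) (v : ℕ) : ℕ → ℕ
  | 0 => 0
  | k + 1 =>
    bif v.testBit k then addC (appUpTo M v k) (colAt M k)
    else bif v.testBit (k + 7) then addC (appUpTo M v k) (negC (colAt M k))
    else appUpTo M v k

/-- A matrix applied to a code. -/
def appC (M : List ℕ) (v : ℕ) : ℕ := appUpTo M v 7

/-- A matrix with a candidate inverse. -/
abbrev Entry : Type := List ℕ × List ℕ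

/-- Product of matrices. -/
def mulC (A B : List ℕ) : List ℕ := (List.range 7).map fun i => appC A (colAt B i)

/-- The identity. -/
def oneC : List ℕ := (List.range 7).map unitC

/-- Equality of matrices. -/
def eqM (A B : List ℕ) : Bool := (List.range 7).all fun i => eqC (colAt A i) (colAt B i)

/-- The matrix of a list of columns. -/
def toMat (M : List ℕ) : Matrix Idx Idx (ZMod 3) := fun i j => dec (colAt M (num j)) i

theorem dec_appC (M : List ℕ) (v : ℕ) : dec (appC M v) = (toMat M).mulVec (dec v) := by
  have hk : ∀ k, dec (appUpTo M v k) =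
      ∑ i ∈ Finset.range k, (trit v i : ZMod 3) • dec (colAt M i) := by
    intro k
    induction k with
    | zero => simp [appUpTo, dec_zero]
    | succ k ih =>
      rw [Finset.sum_range_succ, ← ih]
      simp only [appUpTo, trit]
      cases v.testBit k <;> cases v.testBit (k + 7) <;>
        simp only [cond_true, cond_false, Nat.cast_zero, Nat.cast_one, zero_smul, one_smul, add_zero,
          dec_addC, dec_negC, show ((2 : ℕ) : ZMod 3) = -1 from by decide, neg_one_smul]
  funext i
  rw [appC, hk, Finset.sum_apply, Matrix.mulVec, dotProduct]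
  rw [Finset.sum_range (fun j => ((trit v j : ZMod 3) • dec (colAt M j)) i),
    ← Equiv.sum_comp idxEquiv (fun j : Fin 7 => ((trit v j : ZMod 3) • dec (colAt M j)) i)]
  refine Finset.sum_congr rfl fun j _ => ?_
  simp only [Pi.smul_apply, smul_eq_mul, toMat, dec]
  exact mul_comm _ _

theorem toMat_eq_iff (A B : List ℕ) : eqM A B = true ↔ toMat A = toMat B := by
  simp only [eqM, List.all_eq_true, List.mem_range, eqC_iff]
  constructor
  · intro h
    ext i j
    exact congrFun (h (num j) (num_lt j)) i
  · intro h k hk
    have hn : num (idxAt k) = k := by rw [idxAt, dif_pos hk, num, Equiv.apply_symm_apply]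
    funext i
    have := congrFun (congrFun h i) (idxAt k)
    simp only [toMat, hn] at this
    exact this

theorem toMat_mulC (A B : List ℕ) : toMat (mulC A B) = toMat A * toMat B := by
  ext i j
  have h : colAt (mulC A B) (num j) = appC A (colAt B (num j)) := by
    rw [colAt, mulC, List.getD_eq_getElem _ _ (by simpa using num_lt j)]
    simp
  show dec (colAt (mulC A B) (num j)) i = _
  rw [h, dec_appC]
  rfl

theorem toMat_oneC : toMat oneC = 1 := by
  decide +kernel

/-- A matrix preserves the form, and `M'` is its inverse. -/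
def isoOK (M M' : List ℕ) : Bool :=
  eqM (mulC M M') oneC && eqM (mulC M' M) oneC &&
    (List.range 7).all fun i => (List.range 7).all fun j =>
      bC (colAt M i) (colAt M j) == bC (unitC i) (unitC j)

theorem toMat_mulVec_single (M : List ℕ) (i : Idx) :
    (toMat M).mulVec (Pi.single i 1) = dec (colAt M (num i)) := by
  rw [Matrix.mulVec_single_one]; rfl

theorem preserves {M M' : List ℕ} (h : isoOK M M' = true) (v : Vec) :
    form ((toMat M).mulVec v) = form v := by
  simp only [isoOK, Bool.and_eq_true, List.all_eq_true, List.mem_range, beq_iff_eq] at h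
  have hb : (polarBilin form).compl₁₂ (toMat M).mulVecLin (toMat M).mulVecLin = polarBilin form := by
    refine LinearMap.ext_basis (Pi.basisFun (ZMod 3) Idx) (Pi.basisFun (ZMod 3) Idx) fun i j => ?_
    simp only [Pi.basisFun_apply, LinearMap.compl₁₂_apply, Matrix.mulVecLin_apply,
      toMat_mulVec_single, polarBilin_apply_apply, ← bC_eq]
    rw [h.2 _ (num_lt i) _ (num_lt j), bC_eq, dec_unitC, dec_unitC]
  have h1 := LinearMap.congr_fun (LinearMap.congr_fun hb v) v
  simp only [LinearMap.compl₁₂_apply, Matrix.mulVecLin_apply, polarBilin_apply_apply, polar_self] at h1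
  exact mul_left_cancel₀ (show (2 : ZMod 3) ≠ 0 by decide) (by simpa [nsmul_eq_mul] using h1)

/-- The isometry of a checked matrix. -/
noncomputable def isoOf (M M' : List ℕ) (h : isoOK M M' = true) : Iso7 :=
  ⟨⟨toMat M, toMat M', by
      rw [← toMat_mulC, ← toMat_oneC, ← toMat_eq_iff]
      simp only [isoOK, Bool.and_eq_true] at h; exact h.1.1,
    by
      rw [← toMat_mulC, ← toMat_oneC, ← toMat_eq_iff]
      simp only [isoOK, Bool.and_eq_true] at h; exact h.1.2⟩,
    Orth.mem_isometryGroup_iff.2 (preserves h)⟩

/-- `g` has the matrix `M`. -/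
def HasMat (g : Iso7) (M : List ℕ) : Prop :=
  ((g : Matrix.GeneralLinearGroup Idx (ZMod 3)) : Matrix Idx Idx (ZMod 3)) = toMat M

theorem hasMat_isoOf {M M' : List ℕ} (h : isoOK M M' = true) : HasMat (isoOf M M' h) M := rfl

theorem hasMat_isoOf_inv {M M' : List ℕ} (h : isoOK M M' = true) : HasMat (isoOf M M' h)⁻¹ M' := rfl

theorem HasMat.mul {g k : Iso7} {A B : List ℕ} (hg : HasMat g A) (hk : HasMat k B) :
    HasMat (g * k) (mulC A B) := by
  unfold HasMat at *
  rw [Subgroup.coe_mul, Units.val_mul, hg, hk, toMat_mulC]

theorem hasMat_one : HasMat 1 oneC := by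
  unfold HasMat
  rw [toMat_oneC]; rfl

theorem HasMat.app_dec {g : Iso7} {M : List ℕ} (hg : HasMat g M) (v : ℕ) :
    Orth.app g (dec v) = dec (appC M v) := by
  rw [dec_appC, Orth.app, hg]

theorem HasMat.app_single {g : Iso7} {M : List ℕ} (hg : HasMat g M) (i : Idx) :
    Orth.app g (Pi.single i 1) = dec (colAt M (num i)) := by
  rw [Orth.app, hg, toMat_mulVec_single]

theorem HasMat.eq_iff {g k : Iso7} {A B : List ℕ} (hg : HasMat g A) (hk : HasMat k B) :
    g = k ↔ eqM A B = true := by
  rw [toMat_eq_iff]
  constructor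
  · rintro rfl; exact hg.symm.trans hk
  · exact fun e => Subtype.ext (Units.ext ((hg.trans e).trans hk.symm))

theorem HasMat.conj_eq {g x y : Iso7} {A X Y : List ℕ} (hg : HasMat g A) (hx : HasMat x X)
    (hy : HasMat y Y) (h : eqM (mulC A X) (mulC Y A) = true) : g * x * g⁻¹ = y := by
  rw [mul_inv_eq_iff_eq_mul]
  exact (HasMat.eq_iff (hg.mul hx) (hy.mul hg)).2 h

end Cfsg.Agent.Lib.OmegaSeven
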