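import Cfsg.Agent.Lib.OmegaSeven.Classify

/-!
Seven isometries of order three in `Ω(7,3)`: every element of order three of `Ω(7,3)` is conjugate
in it to one of them, and the subgroups they generate are pairwise non-conjugate. The fifth class
of the isometry group splits because the centraliser of its representative is `± ` a group
generated by elements of order three.
-/

set_option autoImplicit false
set_option maxRecDepth 100000

namespace Cfsg.Agent.Lib.OmegaSeven

open QuadraticMap

theorem two_ne : (2 : ZMod 3) ≠ 0 := by decide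

theorem card_idx : Fintype.card Idx = 7 := by decide

/-- The sign of the determinant. -/
noncomputable abbrev dsign : Iso7 →* ℤˣ :=
  Orth.detSign form two_ne (Orth.oddForm_nondegenerate two_ne 3)

/-- The spinor character. -/
noncomputable abbrev spin : Iso7 →* ℤˣ := Orth.spinor form

theorem mem_omega_iff7 (g : Iso7) : g ∈ Omega (ZMod 3) ⇑form ↔ dsign g = 1 ∧ spin g = 1 :=
  Orth.mem_omega_iff two_ne (Orth.oddForm_nondegenerate two_ne 3) (by rw [card_idx]; norm_num) g

theorem map_cube_eq_one (χ : Iso7 →* ℤˣ) {g : Iso7} (hg : g ^ 3 = 1) : χ g = 1 := by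
  have h : χ g ^ 3 = 1 := by rw [← map_pow, hg, map_one]
  rcases Int.units_eq_one_or (χ g) with e | e
  · exact e
  · rw [e] at h; exact absurd h (by decide)

theorem mem_omega_of_cube {g : Iso7} (hg : g ^ 3 = 1) : g ∈ Omega (ZMod 3) ⇑form :=
  (mem_omega_iff7 g).2 ⟨map_cube_eq_one _ hg, map_cube_eq_one _ hg⟩

theorem cube_of_cubeOne {g : Iso7} {M : List ℕ} (hg : HasMat g M) (h : cubeOne M = true) :
    g ^ 3 = 1 := by
  rw [pow_succ, pow_two]
  exact (HasMat.eq_iff ((hg.mul hg).mul hg) hasMat_one).2 h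

/-! ### Products of reflections -/

/-- The matrix of a reflection. -/
def reflM (v : ℕ) : List ℕ :=
  (List.range 7).map fun i => addC (unitC i) (scaleC (2 * (qC v * bC v (unitC i))) v)

/-- A product of reflections. -/
noncomputable def rp : List ℕ → Iso7
  | [] => 1
  | v :: vs => (if h : form (dec v) ≠ 0 then Orth.refl form (dec v) h else 1) * rp vs

/-- The matrix of a product of reflections. -/
def rpM : List ℕ → List ℕ
  | [] => oneC
  | v :: vs => mulC (reflM v) (rpM vs)

theorem hasMat_refl (v : ℕ) (h : form (dec v) ≠ 0) :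
    HasMat (Orth.refl form (dec v) h) (reflM v) := by
  unfold HasMat
  ext i j
  have e := congrFun (Orth.app_refl h (Pi.single j 1)) i
  rw [Orth.app, Matrix.mulVec_single_one] at e
  refine e.trans ?_
  have hc : colAt (reflM v) (num j) =
      addC (unitC (num j)) (scaleC (2 * (qC v * bC v (unitC (num j)))) v) := by
    rw [colAt, reflM, List.getD_eq_getElem _ _ (by simpa using num_lt j)]
    simp
  show _ = dec (colAt (reflM v) (num j)) i
  rw [hc, dec_addC, dec_scaleC, Nat.cast_mul, Nat.cast_mul, qC_eq, bC_eq, dec_unitC]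
  have hinv : ∀ a : ZMod 3, a⁻¹ = a := by decide +kernel
  have h2 : ((2 : ℕ) : ZMod 3) = -1 := by decide
  simp only [hinv, h2, Pi.sub_apply, Pi.add_apply, Pi.smul_apply, smul_eq_mul]
  ring

theorem rp_spec : ∀ {L : List ℕ}, L.all (fun v => qC v != 0) = true →
    HasMat (rp L) (rpM L) ∧ dsign (rp L) = (-1) ^ L.length ∧
      spin (rp L) = (-1) ^ L.countP (fun v => qC v == 1)
  | [], _ => ⟨hasMat_one, by simp [rp], by simp [rp]⟩
  | v :: vs, h => by
    simp only [List.all_cons, Bool.and_eq_true, bne_iff_ne] at h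
    have hv : form (dec v) ≠ 0 := fun e => h.1 ((qC_zero_iff v).2 e)
    obtain ⟨h1, h3, h4⟩ := rp_spec (L := vs) (by simpa [List.all_eq_true] using h.2)
    simp only [rp, dif_pos hv]
    refine ⟨(hasMat_refl v hv).mul h1, ?_, ?_⟩
    · rw [map_mul, h3, Orth.detSign_refl two_ne _ hv, List.length_cons, pow_succ']
    · rw [map_mul, h4, List.countP_cons]
      rcases (by have := qC_lt v; have := h.1; omega : qC v = 1 ∨ qC v = 2) with e | e
      · have hs : IsSquare (form (dec v)) := by
          rw [← qC_eq, e, Nat.cast_one]; exact IsSquare.one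
        rw [Orth.spinor_refl_of_isSquare two_ne hv hs, e, pow_add]
        simp
      · have hs : ¬ IsSquare (form (dec v)) := by
          rw [← qC_eq, e]
          rintro ⟨r, hr⟩
          revert hr; revert r; decide
        rw [Orth.spinor_refl_of_not_isSquare two_ne hv hs, e]
        simp

theorem negOne_comm (g : Iso7) : Orth.negOne form * g = g * Orth.negOne form :=
  Orth.isometry_ext fun v => by
    simp only [Orth.app_mul, Orth.app_negOne, Orth.app_neg]

theorem dsign_negOne : dsign (Orth.negOne form) = -1 := by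
  obtain ⟨b, hb, hb'⟩ :=
    Orth.exists_orthoBasis (Q := form) two_ne (Orth.oddForm_nondegenerate two_ne 3)
  show Orth.detSign form two_ne _ (Orth.negOne form) = -1
  rw [Orth.map_negOne _ b hb hb']
  simp only [Orth.detSign_refl, Finset.prod_const, Finset.card_univ, Fintype.card_fin]
  simp [card_idx, Module.finrank_pi]
  decide

/-! ### Representatives -/

/-- The matrix of a representative. -/
def repM (i : Fin 7) : List ℕ :=
  if i.val < 6 then (rep0.getD (i.val + 1) ([], [])).1
  else mulC (mulC (rpM shiftVecs) (rep0.getD 5 ([], [])).1) (rpM shiftVecs)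

/-- The inverse of the matrix of a representative. -/
def repM' (i : Fin 7) : List ℕ := mulC (repM i) (repM i)

/-- The class in the isometry group. -/
def label (i : Fin 7) : ℕ := if i.val < 6 then i.val else 4

theorem repM_ok : ∀ i : Fin 7,
    isoOK (repM i) (repM' i) = true ∧ cubeOne (repM i) = true ∧ eqM (repM i) oneC = false := by
  decide +kernel

/-- The representatives. -/
noncomputable def rep (i : Fin 7) : Iso7 := isoOf (repM i) (repM' i) (repM_ok i).1

theorem hasMat_rep (i : Fin 7) : HasMat (rep i) (repM i) := hasMat_isoOf _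

theorem rep_cube (i : Fin 7) : rep i ^ 3 = 1 := cube_of_cubeOne (hasMat_rep i) (repM_ok i).2.1

theorem rep_ne_one (i : Fin 7) : rep i ≠ 1 := fun e => by
  have h := (HasMat.eq_iff (hasMat_rep i) hasMat_one).1 e
  rw [(repM_ok i).2.2] at h
  exact Bool.false_ne_true h

theorem orderOf_rep (i : Fin 7) : orderOf (rep i) = 3 :=
  have : Fact (Nat.Prime 3) := ⟨by norm_num⟩
  orderOf_eq_prime (rep_cube i) (rep_ne_one i)

theorem rep0_first : eqM (rep0.getD 0 ([], [])).1 oneC = true ∧ rep0.length = 7 := by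
  decide +kernel

theorem vecs_ok : (shiftVecs.all (fun v => qC v != 0) = true ∧
    flipVecs.all (fun v => qC v != 0) = true) ∧
    (shiftVecs.length = 2 ∧ shiftVecs.countP (fun v => qC v == 1) = 1 ∧
      eqM (mulC (rpM shiftVecs) (rpM shiftVecs)) oneC = true) ∧
    (flipVecs.length % 2 = 0 ∧ flipVecs.countP (fun v => qC v == 1) % 2 = 0 ∧
      eqM (mulC (rpM flipVecs) (repM 4)) (mulC (repM' 4) (rpM flipVecs)) = true) := by
  decide +kernel

theorem fixVecs_ok : ∀ i : Fin 6, i.val = 4 ∨
    ((fixVecs.getD i.val []).all (fun v => qC v != 0) = true ∧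
      (fixVecs.getD i.val []).length % 2 = 0 ∧
      (fixVecs.getD i.val []).countP (fun v => qC v == 1) % 2 = 1 ∧
      eqM (mulC (rpM (fixVecs.getD i.val [])) (repM i.castSucc))
        (mulC (repM i.castSucc) (rpM (fixVecs.getD i.val []))) = true) := by
  decide +kernel

theorem repM_cast (i : Fin 6) : repM i.castSucc = (rep0.getD (i.val + 1) ([], [])).1 := by
  simp [repM, i.isLt]

theorem neg_one_pow_of_mod {n : ℕ} (h : n % 2 = 0) : (-1 : ℤˣ) ^ n = 1 :=
  (Nat.even_iff.2 h).neg_one_pow

theorem neg_one_pow_of_mod' {n : ℕ} (h : n % 2 = 1) : (-1 : ℤˣ) ^ n = -1 :=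
  (Nat.odd_iff.2 h).neg_one_pow

theorem shift_sign : dsign (rp shiftVecs) = 1 ∧ spin (rp shiftVecs) = -1 := by
  obtain ⟨⟨h, -⟩, ⟨hl, hc, -⟩, -⟩ := vecs_ok
  obtain ⟨-, h1, h3⟩ := rp_spec h
  rw [h1, h3, hl, hc]
  decide

theorem shift_inv : (rp shiftVecs)⁻¹ = rp shiftVecs := by
  obtain ⟨⟨h, -⟩, ⟨-, -, he⟩, -⟩ := vecs_ok
  have hm := (rp_spec h).1
  exact inv_eq_of_mul_eq_one_right ((HasMat.eq_iff (hm.mul hm) hasMat_one).2 he)

theorem rep_six : rp shiftVecs * rep 4 * (rp shiftVecs)⁻¹ = rep 6 := by
  have hm := (rp_spec vecs_ok.1.1).1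
  rw [shift_inv]
  refine (HasMat.eq_iff ((hm.mul (hasMat_rep 4)).mul hm) (hasMat_rep 6)).2 ?_
  rw [toMat_eq_iff]
  rfl

/-- Every element of order three is conjugate in `Ω` to one of the seven. -/
theorem exists_conj_rep_omega {g : Iso7} (hg : g ^ 3 = 1) (hg1 : g ≠ 1) :
    ∃ h ∈ Omega (ZMod 3) ⇑form, ∃ i : Fin 7, h * g * h⁻¹ = rep i := by
  obtain ⟨h, e, he, hm⟩ := exists_conj_rep hg
  obtain ⟨j, hj, rfl⟩ := List.getElem_of_mem he
  rw [← List.getD_eq_getElem _ ([], []) hj] at hm
  have hj0 : j ≠ 0 := by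
    rintro rfl
    have h1 : h * g * h⁻¹ = 1 := (HasMat.eq_iff hm hasMat_one).2 rep0_first.1
    exact hg1 (by simpa using h1)
  let i : Fin 6 := ⟨j - 1, by have := rep0_first.2; omega⟩
  have hconj : h * g * h⁻¹ = rep i.castSucc := by
    refine (HasMat.eq_iff hm (hasMat_rep _)).2 ?_
    rw [repM_cast, show i.val + 1 = j from by simp [i]; omega, toMat_eq_iff]
  obtain ⟨h', hdet, hconj'⟩ : ∃ h' : Iso7, dsign h' = 1 ∧ h' * g * h'⁻¹ = rep i.castSucc := by
    rcases Int.units_eq_one_or (dsign h) with e | e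
    · exact ⟨h, e, hconj⟩
    · refine ⟨Orth.negOne form * h, by rw [map_mul, dsign_negOne, e]; decide, ?_⟩
      rw [← hconj, negOne_comm h]
      have := negOne_comm g
      calc h * Orth.negOne form * g * (h * Orth.negOne form)⁻¹
          = h * (Orth.negOne form * g) * (Orth.negOne form)⁻¹ * h⁻¹ := by group
        _ = h * g * h⁻¹ := by rw [this]; group
  rcases Int.units_eq_one_or (spin h') with e | e
  · exact ⟨h', (mem_omega_iff7 _).2 ⟨hdet, e⟩, _, hconj'⟩
  rcases fixVecs_ok i with hi | ⟨hq, hl, hc, hcomm⟩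
  · refine ⟨rp shiftVecs * h', (mem_omega_iff7 _).2 ⟨?_, ?_⟩, 6, ?_⟩
    · rw [map_mul, shift_sign.1, hdet]; decide
    · rw [map_mul, shift_sign.2, e]; decide
    · rw [← rep_six, show (4 : Fin 7) = i.castSucc from Fin.ext (by simp [hi]), ← hconj']
      group
  · obtain ⟨hk, hd, hs⟩ := rp_spec hq
    refine ⟨rp (fixVecs.getD i.val []) * h', (mem_omega_iff7 _).2 ⟨?_, ?_⟩, i.castSucc, ?_⟩
    · rw [map_mul, hd, neg_one_pow_of_mod hl, hdet]; decide
    · rw [map_mul, hs, neg_one_pow_of_mod' hc, e]; decide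
    · rw [show ∀ k : Iso7, k * h' * g * (k * h')⁻¹ = k * (h' * g * h'⁻¹) * k⁻¹ from
        fun k => by group, hconj']
      exact HasMat.conj_eq hk (hasMat_rep _) (hasMat_rep _) hcomm

/-! ### An invariant -/

/-- The number of fixed vectors with a given value of the form. -/
noncomputable def fixCount (c : ℕ) (g : Iso7) : ℕ := by
  classical exact (Finset.univ.filter fun v : Vec => Orth.app g v = v ∧ form v = (c : ZMod 3)).card

theorem fixCount_conj (c : ℕ) (g h : Iso7) : fixCount c (h * g * h⁻¹) = fixCount c g := by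
  classical
  unfold fixCount
  refine Finset.card_bij' (fun v _ => Orth.app h⁻¹ v) (fun v _ => Orth.app h v) ?_ ?_ ?_ ?_
  · intro v hv
    simp only [Finset.mem_filter, Finset.mem_univ, true_and, Orth.Q_app, Orth.app_mul] at hv ⊢
    refine ⟨?_, hv.2⟩
    conv_rhs => rw [← hv.1, Orth.app_inv_app]
  · intro v hv
    simp only [Finset.mem_filter, Finset.mem_univ, true_and, Orth.Q_app, Orth.app_mul,
      Orth.app_inv_app] at hv ⊢
    exact ⟨by rw [hv.1], hv.2⟩
  · intro v _; exact Orth.app_app_inv h v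
  · intro v _; exact Orth.app_inv_app h v

theorem fixCount_inv (c : ℕ) (g : Iso7) : fixCount c g⁻¹ = fixCount c g := by
  classical
  unfold fixCount
  congr 1
  refine Finset.filter_congr fun v _ => and_congr_left fun _ => ?_
  constructor <;> intro h <;> conv_lhs => rw [← h]
  · exact Orth.app_app_inv g v
  · exact Orth.app_inv_app g v

/-- The fixed vectors with a given value, on codes. -/
def fixC (c : ℕ) (M : List ℕ) (n : ℕ) : Bool := eqC (appC M n) n && qC n == c

theorem fixCount_eq {g : Iso7} {M : List ℕ} (hg : HasMat g M) {c : ℕ} (hc : c < 3) :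
    fixCount c g = allCodes.countP (fixC c M) := by
  classical
  unfold fixCount
  refine card_filter_eq_countP _ _ fun n => ?_
  simp only [fixC, Bool.and_eq_true, beq_iff_eq, eqC_iff, hg.app_dec, ← qC_eq,
    natCast_inj (qC_lt n) hc]

/-- The fixed vector counts for the values 0 and 1, by class. -/
def fixTable : List (ℕ × ℕ) := [(99, 72), (81, 108), (63, 90), (9, 18), (27, 0), (9, 0)]

theorem fix_value : ∀ i : Fin 7,
    (allCodes.countP (fixC 0 (repM i)), allCodes.countP (fixC 1 (repM i))) =
      fixTable.getD (label i) (0, 0) := by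
  decide +kernel

theorem fix_table_inj : ∀ i j : Fin 7,
    fixTable.getD (label i) (0, 0) = fixTable.getD (label j) (0, 0) → label i = label j := by
  decide +kernel

theorem label_eq_of_conj {g : Iso7} {i j : Fin 7}
    (h : g * rep i * g⁻¹ = rep j ∨ g * rep i * g⁻¹ = (rep j)⁻¹) : label i = label j := by
  have hc : ∀ c < 3, allCodes.countP (fixC c (repM i)) = allCodes.countP (fixC c (repM j)) := by
    intro c hc
    rw [← fixCount_eq (hasMat_rep i) hc, ← fixCount_eq (hasMat_rep j) hc,
      ← fixCount_conj c (rep i) g]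
    rcases h with e | e <;> rw [e]
    exact fixCount_inv c _
  refine fix_table_inj i j ?_
  rw [← fix_value, ← fix_value, hc 0 (by norm_num), hc 1 (by norm_num)]

end Cfsg.Agent.Lib.OmegaSeven
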